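import Cfsg.Agent.Mrg.Omega.NOThreeL.AFour.Off
import Cfsg.Agent.Mrg.Omega.NOThreeL.AOne
import Cfsg.Agent.Mrg.Omega.FrameI
import Cfsg.Agent.Mrg.Omega.FFMutual


/-!
# NO-3L: the socket A4 from two pieces (#16740)

* `NatTwo` : no pair (A) with `V_P` a sum of natural `SL₂(2)`-modules (#16392 (2), helper185, helper850);
* `NotFF` : if `V_P` is not FF (module sense), `V_P ≤ O₂(C_G(Z))`, then `V_P` centralises every `U_H`
  (chain of LEMMA J + NL + LEMMA V; helper456, helper850);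
* `caseA_false` : there is no pair of type (A); `a4_of` : the socket `Main.A4`; `caseA` : `Main.CaseAS`.
-/

set_option autoImplicit false
set_option Elab.async false

namespace Cfsg.Agent.Omega.NOThreeL.AFour

open Subgroup Cfsg Cfsg.Agent.ZN Cfsg.Agent.Omega.FrameNOFF
open Cfsg.Agent.Omega.MinPar Cfsg.Agent.Omega.FFThm Cfsg.Agent.Omega.Node.NO3L Cfsg.Agent.Omega.Frame
open Cfsg.Agent.Omega.NOThreeL.Basic Cfsg.Agent.Omega.NOThreeL.Main
open Cfsg.Agent.Omega.FrameFF (cv)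

universe u

/-- No pair (A) with `V_P` a sum of natural `SL₂(2)`-modules. -/
def NatTwo : Prop :=
  ∀ (G : Type u) [Group G] [Finite G], Ctx G → ∀ (S : Sylow 2 G), DataZ (S : Subgroup G) →
    ∀ P H : Subgroup G, PairA (S : Subgroup G) P H →
      ∀ (F : Type) [Field F] [Finite F] [CharP F 2] (k : ℕ), 0 < k → Nat.card F = 2 →
        NatK F (S : Subgroup G) P (zl (S : Subgroup G) P) (cv (S : Subgroup G) P) k → False

/-- `V_P` not FF in the module sense: `[V_P, U_H] = 1` for all long `H`. -/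
def NotFF : Prop :=
  ∀ (G : Type u) [Group G] [Finite G], Ctx G → ∀ (S : Sylow 2 G), Data (S : Subgroup G) →
    ∀ P H : Subgroup G, IsParS (S : Subgroup G) P → IsLong (S : Subgroup G) H →
      (∀ A : Subgroup G, A ≤ P → ¬ OffM (zl (S : Subgroup G) P) A) →
        zl (S : Subgroup G) P ≤ centralizer (zl (S : Subgroup G) H : Set G)

/-- **There is no pair of type (A)**, `C_Z(P) = 1` for all `P ∈ P*(S)`. -/
theorem caseA_false (hFF : FFThm.Stmt.{u}) (hFFM : FFThm.StmtM.{u}) (h2 : NatTwo.{u}) (hN : NotFF.{u})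
    {G : Type u} [Group G] [Finite G] (hG : Ctx G) {S : Sylow 2 G} (D : DataZ (S : Subgroup G)) {P H : Subgroup G}
    (E : PairA (S : Subgroup G) P H) : False := by
  by_cases hoff : ∃ A : Subgroup G, A ≤ P ∧ OffM (zl (S : Subgroup G) P) A
  · obtain ⟨-, hC⟩ := hFFM G (S : Subgroup G) P (syl_of_sylow S E.par.le) E.par.toIsMinPar
      (E.par.isLoc.char2 S hG.char2) hoff
    rcases hC with ⟨F, _, _, _, k, hk, ⟨M⟩⟩ | ⟨k, m, hk, hm, ⟨M⟩⟩
    · have hq : 1 < Nat.card F := Finite.one_lt_card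
      rcases Nat.lt_or_ge 2 (Nat.card F) with hq2 | hq2
      · exact no_nat_big hFF hG D E hk hq2 M.toNatK
      · exact h2 G hG S D P H E F k hk (by omega) M.toNatK
    · exact AFourSym.no_sym hG.char2 D E hm M.toSymK
  · push Not at hoff
    exact E.ne (hN G hG S D.toData P H E.par E.long hoff)

/-- **The socket A4.** -/
theorem a4_of (hFF : FFThm.Stmt.{u}) (hFFM : FFThm.StmtM.{u}) (h2 : NatTwo.{u}) (hN : NotFF.{u}) (K : Cls.{u}) :
    Main.A4 K := by
  intro G _ _ hG _ S _ D P H E _ _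
  exact (caseA_false hFF hFFM h2 hN hG D E).elim

/-- **Case (A).** -/
theorem caseA_of (hFF : FFThm.Stmt.{u}) (hFFM : FFThm.StmtM.{u}) (h2 : NatTwo.{u}) (hN : NotFF.{u})
    (K : Cls.{u}) : CaseAS K := by
  intro G _ _ hG _ S _ D hA
  obtain ⟨P, H, E⟩ := caseA_iff.1 hA
  exact (caseA_false hFF hFFM h2 hN hG D E).elim

end Cfsg.Agent.Omega.NOThreeL.AFour
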