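import Cfsg.Agent.Mrg.Omega.NOThreeL.AFour.NotFF
import Cfsg.Agent.Mrg.Omega.NOThreeL.AFour.Main
import Cfsg.Agent.Mrg.Omega.Spread.ElatOf


/-!
# NO-3L: `AFour.OffAll` and the socket `AFour.NotFF` are theorems
-/

set_option autoImplicit false

namespace Cfsg.Agent.Omega.NOThreeL.AFour

open Subgroup Cfsg Cfsg.Agent.ZN Cfsg.Agent.Omega.FrameNOFF

universe u

/-- THEOREM OFF for all `Hyp V F` (helper304). -/
theorem offAll : OffAll.{u} := fun _ _ _ _ _ h _ hF hE => h.off_all hF hE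

/-- **The socket `NotFF`** (helper456). -/
theorem notFF : NotFF.{u} := fun _ _ _ hG _ D _ _ hP hH hn => comm_of_notFF offAll hG.char2 D hP hn hH

end Cfsg.Agent.Omega.NOThreeL.AFour
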