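import Cfsg.Agent.Omega.NOThreeL.AFour.Ax
import Cfsg.Agent.Mrg.Omega.NOThreeL.AFour.Frame


/-!
# NO-3L A4, `q > 2`: `U_H` induces all upper unitriangular matrices (THEOREM EXACT, #16740 (A4a))

* `FrA.ax` : the family `C_U(N_i)`, `line M i`, `N_i = fac M i` is an `Ax`;
* `FrA.ind` : `Ind M (zl S H) Set.univ`;
* `off_of_ind` : then `U_H` offends on `V_P`.
-/

set_option autoImplicit false
set_option Elab.async false

namespace Cfsg.Agent.Omega.NOThreeL.AFour

open Subgroup Cfsg Cfsg.Agent.ZN Cfsg.Agent.Omega.FrameNOFF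
open Cfsg.Agent.ZN.ChoiceBase hiding mem_zc
open Cfsg.Agent.Omega.MinPar Cfsg.Agent.Omega.FFThm Cfsg.Agent.Omega.Node.NO3L Cfsg.Agent.Omega.Frame
open Cfsg.Agent.Omega.NOThreeL.Basic Cfsg.Agent.Omega.NOThreeL.Main
open Cfsg.Agent.MinSimple.VModule (le_normalizer_zl zl_le zc_le_zl zc_le mem_zc)
open Cfsg.Agent.Lib.SL2Mat
open Cfsg.Agent.Omega.NoFF.Basic (conj_conj mem_conj conj_le_iff)
open Cfsg.Agent.Omega.NatPair (ap ap_mul ap_one exists_ap ap_add)
open Cfsg.Agent.Omega.IId (Ind cj_mem cj_mem' e_inj e_one e_inv e_eq_zero sg sg_spec fac exists_fac exists_trans line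
  mem_line eq_one_of_cent conj_line ext_fac)
open Cfsg.Agent.Omega.NOThreeL.ATwo (Up e_cm b_eq_zero_iff)
open scoped Pointwise

universe u

variable {G : Type u} [Group G] [Finite G] {S : Sylow 2 G} {P H : Subgroup G} {F : Type} [Field F] {k : ℕ}

section vec

variable {S P : Subgroup G} (M : NatK F S P (zl S P) ⊥ k)

/-- The element of `V` with coordinates `![x i, 0]`. -/
noncomputable def vec (x : Fin k → F) : G := (M.surj fun i => ![x i, 0]).choose

omit [Finite G] in
theorem vec_mem (x : Fin k → F) : vec M x ∈ zl S P := (M.surj fun i => ![x i, 0]).choose_spec.1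

omit [Finite G] in
theorem e_vec (x : Fin k → F) (i : Fin k) : M.e (vec M x) i = ![x i, 0] :=
  congrFun (M.surj fun i => ![x i, 0]).choose_spec.2 i

omit [Finite G] in
theorem vec_add (x y : Fin k → F) : vec M (x + y) = vec M x * vec M y := by
  refine e_inj M (vec_mem M _) (mul_mem (vec_mem M x) (vec_mem M y)) (funext fun i => ?_)
  rw [M.mul _ (vec_mem M x) _ (vec_mem M y), Pi.add_apply, e_vec, e_vec, e_vec]
  apply NatPair.ext2 <;> simp

omit [Finite G] in
theorem vec_inj : Function.Injective (vec M) := by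
  intro x y hxy
  funext i
  have h1 := e_vec M x i
  rw [hxy, e_vec] at h1
  exact (congrFun h1 0).symm

omit [Finite G] in
theorem vec_single_mem (i : Fin k) (c : F) : vec M (Pi.single i c) ∈ line M i := by
  rw [mem_line]
  refine ⟨⟨vec_mem M _, fun j hj => ?_⟩, ?_⟩
  · rw [e_vec, Pi.single_eq_of_ne hj]
    apply NatPair.ext2 <;> simp
  · rw [e_vec]; rfl

omit [Finite G] in
theorem mem_line_iff (i : Fin k) (g : G) : g ∈ line M i ↔ ∃ c : F, vec M (Pi.single i c) = g := by
  constructor
  · intro hg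
    rw [mem_line] at hg
    refine ⟨M.e g i 0, ext_fac M (i := i) ((mem_line M).1 (vec_single_mem M i _)).1 hg.1 ?_⟩
    rw [e_vec, Pi.single_eq_same]
    apply NatPair.ext2
    · rfl
    · exact hg.2.symm
  · rintro ⟨c, rfl⟩
    exact vec_single_mem M i c

omit [Finite G] in
theorem eq_vec {v : G} (hv : v ∈ zl S P) (h1 : ∀ i, M.e v i 1 = 0) : vec M (fun i => M.e v i 0) = v := by
  refine e_inj M (vec_mem M _) hv (funext fun i => ?_)
  rw [e_vec]
  apply NatPair.ext2
  · rfl
  · exact (h1 i).symm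

end vec

namespace FrA

variable {M : NatK F (S : Subgroup G) P (zl (S : Subgroup G) P) ⊥ k} (h : FrA S P H M)
include h

variable [CharP F 2]

theorem vec_single (i : Fin k) (c : F) : vec M (Pi.single i c) ∈ zl (S : Subgroup G) H := by
  refine h.line_le i (vec_mem M _) (c := c) (funext fun j => ?_)
  rw [e_vec]
  by_cases hj : j = i
  · rw [hj, Pi.single_eq_same, Pi.single_eq_same]
  · rw [Pi.single_eq_of_ne hj, Pi.single_eq_of_ne hj]
    apply NatPair.ext2 <;> simp

theorem vec_mem_U (x : Fin k → F) : vec M x ∈ zl (S : Subgroup G) H := by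
  have key : ∀ s : Finset (Fin k), vec M (∑ i ∈ s, Pi.single i (x i)) ∈ zl (S : Subgroup G) H := by
    intro s
    induction s using Finset.induction_on with
    | empty =>
      rw [Finset.sum_empty]
      have h1 : vec M 0 = 1 := by
        rw [← e_eq_zero M (vec_mem M _)]
        funext i
        rw [e_vec]
        apply NatPair.ext2 <;> simp
      rw [h1]
      exact one_mem _
    | insert a s ha ih =>
      rw [Finset.sum_insert ha, vec_add]
      exact mul_mem (h.vec_single a _) ih
  have h1 := key Finset.univ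
  rwa [Finset.univ_sum_single] at h1

/-- `|U : C_U(N_i)| ≤ q` -/
theorem idx [Finite F] (i : Fin k) : Nat.card (zl (S : Subgroup G) H) ≤
    Nat.card F * Nat.card (zl (S : Subgroup G) H ⊓ centralizer (fac M i : Set G) : Subgroup G) := by
  set U := zl (S : Subgroup G) H with hU
  set K := U ⊓ centralizer (fac M i : Set G) with hK
  have hKU : K ≤ U := inf_le_left
  choose! b hb using fun (u : G) (hu : u ∈ U) => h.exists_b hu
  let f : (U ⧸ K.subgroupOf U) → F := fun q => b (q.out : U) i
  have hinj : Function.Injective f := by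
    intro q q' hqq
    have hq := hb _ q.out.2
    have hq' := hb _ q'.out.2
    have h1 : b (q.out : U) i = b (q'.out : U) i := hqq
    have h2 : ((q.out : U) : G)⁻¹ * (q'.out : U) ∈ K := by
      refine ⟨U.mul_mem (U.inv_mem q.out.2) q'.out.2, ?_⟩
      have h3 := ATwo.Up.mul (h.UP q'.out.2) (ATwo.Up.inv (h.UP q.out.2) hq) hq'
      refine (b_eq_zero_iff (M := M) (mul_mem (inv_mem (h.UP q.out.2)) (h.UP q'.out.2)) h3 i).1 ?_
      rw [Pi.add_apply, Pi.neg_apply, h1, neg_add_cancel]
    have h3 : (QuotientGroup.mk (q.out : U) : U ⧸ K.subgroupOf U) = QuotientGroup.mk (q'.out : U) := by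
      rw [QuotientGroup.eq, mem_subgroupOf]
      exact h2
    rwa [QuotientGroup.out_eq', QuotientGroup.out_eq'] at h3
  have h1 := Nat.card_le_card_of_injective f hinj
  have hcg : Nat.card (K.subgroupOf U) = Nat.card K := Nat.card_congr (subgroupOfEquivOfLe hKU).toEquiv
  rw [card_eq_card_quotient_mul_card_subgroup (K.subgroupOf U), hcg]
  exact Nat.mul_le_mul_right _ h1

/-- **The family.** -/
theorem ax [Finite F] : Ax H (zl (S : Subgroup G) H) (zc (S : Subgroup G))
    (fun i => zl (S : Subgroup G) H ⊓ centralizer (fac M i : Set G)) (fun i => line M i) (fun i => fac M i)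
    (vec M) where
  MU := h.nrm
  ab := h.ab
  sq := h.sq
  KU := fun i => inf_le_left
  add := vec_add M
  inj := vec_inj M
  LK := fun x i => ⟨h.vec_mem_U x, mem_centralizer_iff.2 fun v hv => IId.comm M hv.1 (vec_mem M x)⟩
  memR := mem_line_iff M
  NM := fun i v hv => h.VH hv.1
  cent := fun i a ha t ht => (mem_centralizer_iff.1 ha.2 t ht).symm
  comm := by
    intro i u hu t ht
    obtain ⟨b, hb⟩ := h.exists_b hu
    have h1 := e_cm (h.UP hu) ht.1 hb
    rw [mem_line]
    refine ⟨⟨mul_mem (cj_mem (h.UP hu) ht.1) (inv_mem ht.1), fun j hj => ?_⟩, ?_⟩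
    · rw [h1 j, ht.2 j hj]
      apply NatPair.ext2 <;> simp
    · rw [h1 i]; rfl
  full := by
    intro i u hu huK y hy
    obtain ⟨b, hb⟩ := h.exists_b hu
    have hbi : b i ≠ 0 := fun h0 => huK ⟨hu, (b_eq_zero_iff (M := M) (h.UP hu) hb i).1 h0⟩
    rw [mem_line] at hy
    obtain ⟨t, ht, hte⟩ := exists_fac M i ![0, M.e y i 0 / b i]
    refine ⟨t, ht, ?_⟩
    refine e_inj M (mul_mem (cj_mem (h.UP hu) ht.1) (inv_mem ht.1)) hy.1.1 (funext fun j => ?_)
    rw [e_cm (h.UP hu) ht.1 hb j]
    by_cases hj : j = i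
    · subst hj
      rw [hte]
      apply NatPair.ext2
      · change b j * (M.e y j 0 / b j) = _
        field_simp
      · exact hy.2.symm
    · rw [ht.2 j hj, hy.1.2 j hj]
      apply NatPair.ext2 <;> simp
  idx := h.idx
  trans := by
    intro i j
    obtain ⟨t, ht, htf⟩ := exists_trans M h.SP i j
    refine ⟨t, h.SH ht, ?_, fun z hz => (mem_zc.1 hz).2.1 t ht, ?_⟩
    · rw [cj_inf, cj_centralizer, htf, cj_eq_of_mem_normalizer (le_normalizer_zl _ _ (h.SH ht))]
    · have h1 : t * vec M (Pi.single i 1) * t⁻¹ ∈ line M j := by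
        have h2 := conj_line M h.SP ht i
        have h3 : sg M (h.SP ht) i = j := (IId.sg_eq_iff M (h.SP ht)).2 htf
        rw [h3] at h2
        rw [← h2, mem_cj]
        have e : t⁻¹ * (t * vec M (Pi.single i 1) * t⁻¹) * t = vec M (Pi.single i 1) := by group
        rw [e]
        exact vec_single_mem M i 1
      obtain ⟨d, hd⟩ := (mem_line_iff M j _).1 h1
      exact ⟨d, hd.symm⟩
  ZL := fun z hz => ⟨_, eq_vec M (zc_le_zl _ _ hz) (h.ez hz)⟩
  gen := by
    intro A hA
    refine iSup_le fun g => ?_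
    intro w hw
    refine hA g g.2 ?_
    rw [mem_cj]
    exact mem_conj.1 hw
  ne := by
    intro i hle
    exact h.not_cent i (hle.trans inf_le_right)
  o2 := by
    intro i j a ha x hx b hb z hz hz1 hbz
    refine h.two_elt ha.1 hz hz1 hbz ?_
    rw [mem_cj] at hb
    have h1 := IId.sq M hb.1
    calc b * b = x * ((x⁻¹ * b * x) * (x⁻¹ * b * x)) * x⁻¹ := by group
      _ = 1 := by rw [h1]; group
  fix := by
    intro x hx t ht htx z hz j
    refine ⟨h.nrm t ht z (zc_le_zl _ _ hz), mem_centralizer_iff.2 fun v hv => ?_⟩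
    have hf : ∀ i, M.e (vec M x) i ≠ 0 := by
      intro i h0
      rw [e_vec] at h0
      exact hx i (congrFun h0 0)
    exact (h.fix (vec_mem M x) hf htx z (zc_le_zl _ _ hz) v hv.1).symm

/-- **THEOREM EXACT**: `U_H` induces all upper unitriangular elements of `SL₂(F)^k`. -/
theorem ind [Finite F] (hF : 2 < Nat.card F) : Ind M (zl (S : Subgroup G) H) Set.univ := by
  set U := zl (S : Subgroup G) H with hU
  have hax := h.ax
  -- an element moving only the factor `i`
  have key : ∀ (i : Fin k) (c : F), ∃ u ∈ U, Up M u (Pi.single i c) := by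
    intro i c
    obtain ⟨hex, hcard⟩ := hax.exact hF i
    choose! b hb using fun (u : G) (hu : u ∈ U) => h.exists_b hu
    set K := U ⊓ centralizer (fac M i : Set G) with hK
    have hKU : K ≤ U := inf_le_left
    -- `b i` is onto
    let f : (U ⧸ K.subgroupOf U) → F := fun q => b (q.out : U) i
    have hinj : Function.Injective f := by
      intro q q' hqq
      have hq := hb _ q.out.2
      have hq' := hb _ q'.out.2
      have h1 : b (q.out : U) i = b (q'.out : U) i := hqq
      have h2 : ((q.out : U) : G)⁻¹ * (q'.out : U) ∈ K := by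
        refine ⟨U.mul_mem (U.inv_mem q.out.2) q'.out.2, ?_⟩
        have h3 := ATwo.Up.mul (h.UP q'.out.2) (ATwo.Up.inv (h.UP q.out.2) hq) hq'
        refine (b_eq_zero_iff (M := M) (mul_mem (inv_mem (h.UP q.out.2)) (h.UP q'.out.2)) h3 i).1 ?_
        rw [Pi.add_apply, Pi.neg_apply, h1, neg_add_cancel]
      have h3 : (QuotientGroup.mk (q.out : U) : U ⧸ K.subgroupOf U) = QuotientGroup.mk (q'.out : U) := by
        rw [QuotientGroup.eq, mem_subgroupOf]
        exact h2
      rwa [QuotientGroup.out_eq', QuotientGroup.out_eq'] at h3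
    have hcg : Nat.card (K.subgroupOf U) = Nat.card K := Nat.card_congr (subgroupOfEquivOfLe hKU).toEquiv
    have hq : Nat.card F ≤ Nat.card (U ⧸ K.subgroupOf U) := by
      rw [card_eq_card_quotient_mul_card_subgroup (K.subgroupOf U), hcg] at hcard
      exact (Nat.eq_of_mul_eq_mul_right Nat.card_pos hcard).ge
    have hbij := hinj.bijective_of_nat_card_le hq
    obtain ⟨q, hq⟩ := hbij.2 c
    obtain ⟨y, hy, hyl, hyi⟩ := hex _ q.out.2
    refine ⟨y, hy, ?_⟩
    have h1 : b y = Pi.single i c := by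
      funext l
      by_cases hl : l = i
      · subst hl
        rw [Pi.single_eq_same]
        have h3 := ATwo.Up.mul (h.UP q.out.2) (ATwo.Up.inv (h.UP hy) (hb y hy)) (hb _ q.out.2)
        have h4 := (b_eq_zero_iff (M := M) (mul_mem (inv_mem (h.UP hy)) (h.UP q.out.2)) h3 l).2 hyi.2
        rw [Pi.add_apply, Pi.neg_apply, neg_add_eq_zero] at h4
        rw [h4]
        exact hq
      · rw [Pi.single_eq_of_ne hl]
        exact (b_eq_zero_iff (M := M) (h.UP hy) (hb y hy) l).2 (hyl l hl).2
    rw [← h1]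
    exact hb y hy
  refine ⟨fun a ha => ?_, fun b _ => ?_⟩
  · obtain ⟨b, hb⟩ := h.exists_b ha
    exact ⟨b, fun i hi => (hi (Set.mem_univ i)).elim, hb⟩
  · have key2 : ∀ s : Finset (Fin k), ∃ u ∈ U, Up M u (∑ i ∈ s, Pi.single i (b i)) := by
      intro s
      induction s using Finset.induction_on with
      | empty =>
        refine ⟨1, one_mem _, ?_⟩
        rw [Finset.sum_empty]
        exact ATwo.up_of_cent (M := M) (one_mem _)
      | insert a s ha ih =>
        obtain ⟨u, hu, hub⟩ := ih
        obtain ⟨v, hv, hvb⟩ := key a (b a)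
        refine ⟨v * u, mul_mem hv hu, ?_⟩
        rw [Finset.sum_insert ha]
        exact ATwo.Up.mul (h.UP hu) hvb hub
    obtain ⟨u, hu, hub⟩ := key2 Finset.univ
    rw [Finset.univ_sum_single] at hub
    exact ⟨u, hu, hub⟩

end FrA

end Cfsg.Agent.Omega.NOThreeL.AFour
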