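import Cfsg.Agent.Mrg.Omega.NOThreeL.AFour.Two
import Cfsg.Agent.Mrg.Omega.NOThreeL.AFour.NotFFPlug
import Cfsg.Agent.Mrg.Omega.FFBr.Final


/-!
# NO-3L, case (A): the sockets `Main.A4` and `CaseAS` are theorems

* `natTwo` : `q = 2` (helper185 `ind_two`);
* `no_A` : no pair of type (A); `a4`, `caseA`.
-/

set_option autoImplicit false
set_option Elab.async false

namespace Cfsg.Agent.Omega.NOThreeL.AFour

open Subgroup Cfsg Cfsg.Agent.ZN Cfsg.Agent.Omega.FrameNOFF
open Cfsg.Agent.Omega.MinPar Cfsg.Agent.Omega.FFThm Cfsg.Agent.Omega.Node.NO3L Cfsg.Agent.Omega.Frame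
open Cfsg.Agent.Omega.NOThreeL.Basic Cfsg.Agent.Omega.NOThreeL.Main

universe u

/-- Over a field with two elements. -/
theorem two_of_card {F : Type} [Field F] [Finite F] (h : Nat.card F = 2) (x : F) : x = 0 ∨ x = 1 := by
  classical
  by_contra hx
  push Not at hx
  have h1 : ({0, 1, x} : Finset F).card = 3 := by
    rw [Finset.card_insert_of_notMem, Finset.card_insert_of_notMem, Finset.card_singleton]
    · simpa using hx.2.symm
    · simp only [Finset.mem_insert, Finset.mem_singleton, not_or]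
      exact ⟨zero_ne_one, hx.1.symm⟩
  have := Fintype.ofFinite F
  have h2 := Finset.card_le_univ ({0, 1, x} : Finset F)
  rw [h1, ← Nat.card_eq_fintype_card, h] at h2
  omega

/-- `|F| = 2` (K-free; input `FFThm.Stmt` only for `NoOver`). -/
theorem natTwo (hFF : FFThm.Stmt.{u}) : NatTwo.{u} := by
  intro G _ _ hG S D P H E F _ _ _ k hk h2 M
  have h1 := DataZ.cv_eq hG.char2 D E.par
  have M' := M
  rw [h1] at M'
  have h : FrA S P H M' := ⟨hG.char2, hG.sylow_ne_bot S, D, E, hk⟩
  have hoff := h.off_of_ind (ind_two hG.char2 D E (two_of_card h2) hk M')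
  obtain ⟨hn, -, hoff', he⟩ := PairA.off_of hG.char2 hFF E hoff
  exact ATwo.false_of_exact hG D ⟨E, hoff, hoff', hn, he⟩ hk M

/-- **There is no pair of type (A).** -/
theorem no_A {G : Type u} [Group G] [Finite G] (hG : Ctx G) {S : Sylow 2 G} (D : DataZ (S : Subgroup G))
    {P H : Subgroup G} (E : PairA (S : Subgroup G) P H) : False :=
  caseA_false FFBr.ffthm FFBr.ffthmM (natTwo FFBr.ffthm) notFF hG D E

/-- **The socket `Main.A4`.** -/
theorem a4 (K : Cls.{u}) : Main.A4 K :=
  a4_of FFBr.ffthm FFBr.ffthmM (natTwo FFBr.ffthm) notFF K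

/-- **Case (A) of NO-3L.** -/
theorem caseA (K : Cls.{u}) : CaseAS K :=
  caseA_of FFBr.ffthm FFBr.ffthmM (natTwo FFBr.ffthm) notFF K

end Cfsg.Agent.Omega.NOThreeL.AFour
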