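import Cfsg.Agent.Mrg.Omega.NOThreeL.AFour.Big
import Cfsg.Agent.Mrg.Omega.NOThreeL.ATwo.MainQ
import Cfsg.Agent.Mrg.Omega.FrameI


/-!
# NO-3L A4: if `U_H` induces all upper unitriangular matrices, the pair is exact

* `FrA.off_of_ind` : `Ind M (zl S H) univ` gives `Off V_P U_H`;
* `no_nat_big` : there is no pair (A) with `V_P` a sum of natural `SL₂(F)`-modules, `|F| > 2` (K-free; input
  `FFThm.Stmt` only for `NoOver`).
-/

set_option autoImplicit false
set_option Elab.async false

namespace Cfsg.Agent.Omega.NOThreeL.AFour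

open Subgroup Cfsg Cfsg.Agent.ZN Cfsg.Agent.Omega.FrameNOFF
open Cfsg.Agent.ZN.ChoiceBase hiding mem_zc
open Cfsg.Agent.Omega.MinPar Cfsg.Agent.Omega.FFThm Cfsg.Agent.Omega.Node.NO3L Cfsg.Agent.Omega.Frame
open Cfsg.Agent.Omega.NOThreeL.Basic Cfsg.Agent.Omega.NOThreeL.Main
open Cfsg.Agent.Lib.SL2Mat
open Cfsg.Agent.Omega.NatPair (ap ap_mul ap_one exists_ap ap_add)
open Cfsg.Agent.Omega.IId (Ind cj_mem cj_mem' e_inj e_one e_inv e_eq_zero)
open Cfsg.Agent.Omega.NOThreeL.ATwo (Up e_cm b_eq_zero_iff)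

universe u

variable {G : Type u} [Group G] [Finite G] {S : Sylow 2 G} {P H : Subgroup G} {F : Type} [Field F] {k : ℕ}

namespace FrA

variable {M : NatK F (S : Subgroup G) P (zl (S : Subgroup G) P) ⊥ k} (h : FrA S P H M)
include h

variable [CharP F 2]

theorem off_of_ind [Finite F] (hI : Ind M (zl (S : Subgroup G) H) Set.univ) :
    Off (zl (S : Subgroup G) P) (zl (S : Subgroup G) H) := by
  refine ⟨FFThm.elem_zl h.hc S h.E.long.loc, h.E.ne', ?_⟩
  rw [FFThm.relIndex_le_iff]
  set U := zl (S : Subgroup G) H with hU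
  -- `|V : C_V(U)| ≤ q ^ k`
  have h1 : (centralizer (U : Set G)).relIndex (zl (S : Subgroup G) P) ≤ Nat.card (Fin k → F) := by
    let f : (zl (S : Subgroup G) P ⧸ (centralizer (U : Set G)).subgroupOf (zl (S : Subgroup G) P)) → (Fin k → F) := fun q i => M.e (q.out : zl (S : Subgroup G) P) i 1
    have hinj : Function.Injective f := by
      intro q q' hqq
      have h1 : ∀ i, M.e (q.out : zl (S : Subgroup G) P) i 1 = M.e (q'.out : zl (S : Subgroup G) P) i 1 := fun i => congrFun hqq i
      have h2 : ((q.out : zl (S : Subgroup G) P) : G)⁻¹ * (q'.out : zl (S : Subgroup G) P) ∈ centralizer (U : Set G) := by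
        set v := ((q.out : zl (S : Subgroup G) P) : G)⁻¹ * (q'.out : zl (S : Subgroup G) P) with hv
        have hvV : v ∈ zl (S : Subgroup G) P := (zl (S : Subgroup G) P).mul_mem ((zl (S : Subgroup G) P).inv_mem q.out.2) q'.out.2
        have hv1 : ∀ i, M.e v i 1 = 0 := by
          intro i
          rw [hv, M.mul _ ((zl (S : Subgroup G) P).inv_mem q.out.2) _ q'.out.2, Pi.add_apply, Pi.add_apply, e_inv M q.out.2,
            Pi.neg_apply, Pi.neg_apply, h1 i, neg_add_cancel]
        refine mem_centralizer_iff.2 fun u hu => ?_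
        obtain ⟨b, -, hb⟩ := hI.act u hu
        have h3 : u * v * u⁻¹ * v⁻¹ = 1 := by
          rw [← e_eq_zero M (mul_mem (cj_mem (h.UP hu) hvV) (inv_mem hvV))]
          funext i
          rw [e_cm (h.UP hu) hvV hb i, hv1 i, mul_zero]
          apply NatPair.ext2 <;> rfl
        calc u * v = u * v * u⁻¹ * v⁻¹ * (v * u) := by group
          _ = v * u := by rw [h3, one_mul]
      have h3 : (QuotientGroup.mk (q.out : zl (S : Subgroup G) P) : zl (S : Subgroup G) P ⧸ (centralizer (U : Set G)).subgroupOf (zl (S : Subgroup G) P)) =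
          QuotientGroup.mk (q'.out : zl (S : Subgroup G) P) := by
        rw [QuotientGroup.eq, mem_subgroupOf]
        exact h2
      rwa [QuotientGroup.out_eq', QuotientGroup.out_eq'] at h3
    exact Nat.card_le_card_of_injective f hinj
  -- `q ^ k ≤ |U : C_U(V)|`
  refine h1.trans ?_
  choose u hu hub using fun b : Fin k → F => hI.ex b fun _ hi => (hi (Set.mem_univ _)).elim
  let f : (Fin k → F) → (U ⧸ (centralizer (zl (S : Subgroup G) P : Set G)).subgroupOf U) := fun b => QuotientGroup.mk ⟨u b, hu b⟩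
  have hinj : Function.Injective f := by
    intro b b' hbb
    have h2 := QuotientGroup.eq.1 hbb
    rw [mem_subgroupOf] at h2
    change (u b)⁻¹ * u b' ∈ centralizer (zl (S : Subgroup G) P : Set G) at h2
    have h3 : Up M ((u b)⁻¹ * u b') (-b + b') :=
      ATwo.Up.mul (h.UP (hu b')) (ATwo.Up.inv (h.UP (hu b)) (hub b)) (hub b')
    have h4 := ATwo.Up.eq h3 (ATwo.up_of_cent (M := M) h2)
    rwa [neg_add_eq_zero] at h4
  exact Nat.card_le_card_of_injective f hinj

end FrA

/-- **No pair (A) with `V_P` a sum of natural `SL₂(F)`-modules, `|F| > 2`.** -/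
theorem no_nat_big (hFF : FFThm.Stmt.{u}) (hG : Frame.Ctx G) {S : Sylow 2 G} (D : DataZ (S : Subgroup G))
    {P H : Subgroup G} (E : PairA (S : Subgroup G) P H) {F : Type} [Field F] [Finite F] [CharP F 2] {k : ℕ}
    (hk : 0 < k) (hF : 2 < Nat.card F)
    (M : NatK F (S : Subgroup G) P (zl (S : Subgroup G) P) (FrameFF.cv (S : Subgroup G) P) k) : False := by
  have h1 := DataZ.cv_eq hG.char2 D E.par
  have M' := M
  rw [h1] at M'
  have h : FrA S P H M' := ⟨hG.char2, hG.sylow_ne_bot S, D, E, hk⟩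
  have hoff := h.off_of_ind (h.ind hF)
  obtain ⟨hn, -, hoff', he⟩ := PairA.off_of hG.char2 hFF E hoff
  exact ATwo.false_of_exact hG D ⟨E, hoff, hoff', hn, he⟩ hk M

end Cfsg.Agent.Omega.NOThreeL.AFour
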