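import Cfsg.Agent.Mrg.Omega.NOThreeL.IndepTwo
import Cfsg.Agent.Mrg.Omega.NOThreeL.ATwo.Lin


/-!
# NO-3L A4, `q = 2` (helper884 #16392 (2)): `IndepTwo.Dat` in multiplicative notation

* `GDat` : the hypotheses of `IndepTwo.Dat` for an elementary abelian normal subgroup `U` of `H`;
* `GDat.exists_apply` : all values of the functionals occur.
-/

set_option autoImplicit false
set_option Elab.async false

namespace Cfsg.Agent.Omega.NOThreeL.AFour

open Subgroup
open Cfsg.Agent.Omega.NOThreeL.ATwo (TvBy)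

universe u

variable {G : Type u} [Group G]

/-- The hypotheses of `IndepTwo.Dat` in multiplicative notation. -/
structure GDat (H U S Q V : Subgroup G) (z : G) {k : ℕ} (φ : Fin k → G → ZMod 2) (c : Fin k → G)
    (lam : Fin k → G → ZMod 2) : Prop where
  SH : S ≤ H
  nrm : ∀ x ∈ H, ∀ u ∈ U, x * u * x⁻¹ ∈ U
  ab : ∀ u ∈ U, ∀ v ∈ U, u * v = v * u
  sq : ∀ u ∈ U, u * u = 1
  zU : z ∈ U
  gen : ∀ A : Subgroup G, (∀ x ∈ H, x * z * x⁻¹ ∈ A) → U ≤ A
  core : ∀ T : Subgroup G, T ≤ U → S ≤ normalizer (T : Set G) → T ≠ ⊥ → z ∈ T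
  add : ∀ i, ∀ u ∈ U, ∀ v ∈ U, φ i (u * v) = φ i u + φ i v
  ne : ∀ i, ∃ u ∈ U, φ i u ≠ 0
  cU : ∀ i, c i ∈ U
  c0 : ∀ i, φ i (c i) = 0
  cV : ∀ i, c i ∈ V
  lam1 : ∀ i, lam i 1 = 0
  lamc : ∀ i j, lam i (c j) = if i = j then 1 else 0
  lamm : ∀ i j, ∀ v ∈ V, lam i (c j * v) = lam i (c j) + lam i v
  tr : ∀ i, ∃ x ∈ H, x ∈ Q ∧ TvBy U (φ i) (c i) x
  QP : ∀ x ∈ Q, ∃ n : ℕ, x ^ (2 ^ n) = 1
  Qn : ∀ x ∈ H, x * z = z * x → ∀ y ∈ Q, x * y * x⁻¹ ∈ Q
  trans : ∀ i j, ∃ s ∈ S, (∀ u ∈ U, φ i (s⁻¹ * u * s) = φ j u) ∧ s * c i * s⁻¹ = c j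

namespace GDat

variable {H U S Q V : Subgroup G} {z : G} {k : ℕ} {φ : Fin k → G → ZMod 2} {c : Fin k → G} {lam : Fin k → G → ZMod 2}

/-- All values of the functionals occur. -/
theorem exists_apply [Finite G] (h : GDat H U S Q V z φ c lam) (b : Fin k → ZMod 2) : ∃ u ∈ U, ∀ i, φ i u = b i := by
  classical
  let i1 : AddCommGroup (Additive U) :=
    { (inferInstance : AddGroup (Additive U)) with
      add_comm := fun v w => congrArg Additive.ofMul (Subtype.ext (h.ab _ (Additive.toMul v).2 _ (Additive.toMul w).2)) }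
  let i2 : Module (ZMod 2) (Additive U) := AddCommGroup.zmodModule (n := 2) fun v => by
    rw [two_nsmul]
    exact congrArg Additive.ofMul (Subtype.ext (h.sq _ (Additive.toMul v).2))
  let i3 : DistribMulAction H (Additive U) :=
    { smul := fun x v => Additive.ofMul ⟨x * (Additive.toMul v : U) * (x : G)⁻¹, h.nrm x x.2 _ (Additive.toMul v).2⟩
      one_smul := fun v => congrArg Additive.ofMul (Subtype.ext (by
        change ((1 : H) : G) * (Additive.toMul v : U) * ((1 : H) : G)⁻¹ = (Additive.toMul v : U)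
        rw [OneMemClass.coe_one, one_mul, inv_one, mul_one]))
      mul_smul := fun x y v => congrArg Additive.ofMul (Subtype.ext (by
        change ((x * y : H) : G) * (Additive.toMul v : U) * ((x * y : H) : G)⁻¹ =
          x * (y * (Additive.toMul v : U) * (y : G)⁻¹) * (x : G)⁻¹
        rw [Subgroup.coe_mul]; group))
      smul_zero := fun x => congrArg Additive.ofMul (Subtype.ext (by
        change (x : G) * ((1 : U) : G) * (x : G)⁻¹ = ((1 : U) : G)
        rw [OneMemClass.coe_one, mul_one, mul_inv_cancel]))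
      smul_add := fun x v w => congrArg Additive.ofMul (Subtype.ext (by
        change (x : G) * ((Additive.toMul v * Additive.toMul w : U) : G) * (x : G)⁻¹ =
          (x * (Additive.toMul v : U) * (x : G)⁻¹) * (x * (Additive.toMul w : U) * (x : G)⁻¹)
        rw [Subgroup.coe_mul]; group)) }
  have i4 : Finite (Additive U) := inferInstanceAs (Finite U)
  -- equality of elements of `Additive U`
  have ext' : ∀ {v w : Additive U}, ((Additive.toMul v : U) : G) = ((Additive.toMul w : U) : G) → v = w :=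
    fun hvw => congrArg Additive.ofMul (Subtype.ext hvw)
  let f : Fin k → (Additive U →+ ZMod 2) := fun i =>
    { toFun := fun v => φ i (Additive.toMul v : U)
      map_zero' := by
        have h1 := h.add i 1 (one_mem _) 1 (one_mem _)
        rw [mul_one] at h1
        exact left_eq_add.1 h1
      map_add' := fun v w => h.add i _ (Additive.toMul v).2 _ (Additive.toMul w).2 }
  have hf : ∀ i (v : U), f i (Additive.ofMul v) = φ i (v : G) := fun _ _ => rfl
  let cc : Fin k → Additive U := fun i => Additive.ofMul ⟨c i, h.cU i⟩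
  let zz : Additive U := Additive.ofMul ⟨z, h.zU⟩
  -- transvections
  have tv : ∀ i (e : U) (x : G) (hx : x ∈ H), TvBy U (φ i) e x → ∀ u : Additive U,
      (⟨x, hx⟩ : H) • u = u + f i u • (Additive.ofMul e : Additive U) := by
    intro i e x hx hT u
    apply ext'
    have h1 := hT _ (Additive.toMul u).2
    have h2 : f i u = φ i ((Additive.toMul u : U) : G) := rfl
    have h3 : ((Additive.toMul ((⟨x, hx⟩ : H) • u) : U) : G) = x * (Additive.toMul u : U) * x⁻¹ := rfl
    rw [h3, h1]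
    rcases ThmL.z2 (f i u) with h0 | h0
    · rw [if_pos (by rw [← h2, h0]), h0, zero_smul, add_zero]
    · rw [if_neg (by rw [← h2, h0]; decide), h0, one_smul]
      rfl
  have act_f : ∀ (s : H) i j, (∀ u ∈ U, φ i ((s : G)⁻¹ * u * s) = φ j u) → ThmL.act s (f i) = f j := by
    intro s i j hs
    refine AddMonoidHom.ext fun u => ?_
    rw [ThmL.act_apply]
    have h1 := hs _ (Additive.toMul u).2
    have h2 : ((Additive.toMul (s⁻¹ • u) : U) : G) = ((s⁻¹ : H) : G) * (Additive.toMul u : U) * ((s⁻¹ : H) : G)⁻¹ := rfl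
    have h3 : f i (s⁻¹ • u) = φ i ((Additive.toMul (s⁻¹ • u) : U) : G) := rfl
    rw [h3, h2, InvMemClass.coe_inv, inv_inv, h1]
    rfl
  have z_iff : ∀ s : H, s • zz = zz → (s : G) * z = z * s := by
    intro s hs
    have h1 : (s : G) * z * (s : G)⁻¹ = z := congrArg Subtype.val (congrArg Additive.toMul hs)
    calc (s : G) * z = s * z * (s : G)⁻¹ * s := by group
      _ = z * s := by rw [h1]
  -- sums of the `cc i`
  have hsum : ∀ I : Finset (Fin k), ((Additive.toMul (∑ i ∈ I, cc i) : U) : G) ∈ V ∧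
      ∀ j, lam j ((Additive.toMul (∑ i ∈ I, cc i) : U) : G) = if j ∈ I then 1 else 0 := by
    intro I
    induction I using Finset.induction_on with
    | empty =>
      refine ⟨one_mem V, fun j => ?_⟩
      rw [if_neg (Finset.notMem_empty j)]
      exact h.lam1 j
    | insert a I ha ih =>
      obtain ⟨h1, h2⟩ := ih
      have e : ((Additive.toMul (∑ i ∈ insert a I, cc i) : U) : G) = c a * ((Additive.toMul (∑ i ∈ I, cc i) : U) : G) := by
        rw [Finset.sum_insert ha]
        rfl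
      rw [e]
      refine ⟨mul_mem (h.cV a) h1, fun j => ?_⟩
      rw [h.lamm j a _ h1, h2, h.lamc]
      by_cases hja : j = a
      · subst hja
        rw [if_pos rfl, if_neg ha, if_pos (Finset.mem_insert_self _ _), add_zero]
      · rw [if_neg hja, zero_add]
        by_cases hj : j ∈ I
        · rw [if_pos hj, if_pos (Finset.mem_insert_of_mem hj)]
        · rw [if_neg hj, if_neg (by rw [Finset.mem_insert]; tauto)]
  have D : IndepTwo.Dat (X := H) f cc zz := by
    refine ⟨?_, ?_, ?_, ?_, ?_, ?_⟩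
    · intro N hN
      by_cases h0 : N = ⊥
      · exact Or.inl h0
      · right
        let T : Subgroup G :=
          { carrier := {t | ∃ ht : t ∈ U, (Additive.ofMul (⟨t, ht⟩ : U) : Additive U) ∈ N}
            one_mem' := ⟨one_mem _, N.zero_mem⟩
            mul_mem' := by
              rintro a b ⟨ha, ha'⟩ ⟨hb, hb'⟩
              exact ⟨mul_mem ha hb, N.add_mem ha' hb'⟩
            inv_mem' := by
              rintro a ⟨ha, ha'⟩
              exact ⟨inv_mem ha, N.neg_mem ha'⟩ }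
        have hTn : ∀ x ∈ H, ∀ t ∈ T, x * t * x⁻¹ ∈ T := by
          rintro x hx t ⟨ht, ht'⟩
          exact ⟨h.nrm x hx t ht, hN ⟨x, hx⟩ _ ht'⟩
        have hTne : T ≠ ⊥ := by
          intro h1
          apply h0
          rw [eq_bot_iff]
          intro m hm
          have h2 : ((Additive.toMul m : U) : G) ∈ T := ⟨(Additive.toMul m).2, hm⟩
          rw [h1, mem_bot] at h2
          rw [AddSubgroup.mem_bot]
          exact ext' h2
        have hzT : z ∈ T := by
          refine h.core T (fun t ht => ht.1) (fun s hs => ?_) hTne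
          rw [mem_normalizer_iff]
          intro t
          refine ⟨hTn s (h.SH hs) t, fun ht => ?_⟩
          have h2 := hTn s⁻¹ (inv_mem (h.SH hs)) _ ht
          have e : s⁻¹ * (s * t * s⁻¹) * s⁻¹⁻¹ = t := by group
          rwa [e] at h2
        have hUT : U ≤ T := h.gen T fun x hx => hTn x hx z hzT
        rw [eq_top_iff]
        intro m _
        obtain ⟨h1, h2⟩ := hUT (Additive.toMul m).2
        exact h2
    · intro i h0
      obtain ⟨u, hu, hne⟩ := h.ne i
      apply hne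
      exact DFunLike.congr_fun h0 (Additive.ofMul ⟨u, hu⟩ : Additive U)
    · intro i
      obtain ⟨x, hx, -, hT⟩ := h.tr i
      exact ⟨h.c0 i, ⟨x, hx⟩, tv i ⟨c i, h.cU i⟩ x hx hT⟩
    · intro i j
      obtain ⟨s, hs, h1, h2⟩ := h.trans i j
      exact ⟨⟨s, h.SH hs⟩, act_f ⟨s, h.SH hs⟩ i j h1, ext' h2⟩
    · rintro I ⟨j, hj⟩ h0
      have h1 := (hsum I).2 j
      rw [h0, if_pos hj] at h1
      have h2 : lam j ((Additive.toMul (0 : Additive U) : U) : G) = 0 := h.lam1 j
      rw [h2] at h1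
      exact absurd h1 (by decide)
    · intro i s hs t ht
      obtain ⟨x, hx, hxQ, hT⟩ := h.tr i
      have hsz := z_iff s hs
      -- `s t s⁻¹ t⁻¹` acts as `s x s⁻¹ x⁻¹ ∈ Q`
      have hq : (s : G) * x * (s : G)⁻¹ * x⁻¹ ∈ Q := mul_mem (h.Qn s s.2 hsz x hxQ) (inv_mem hxQ)
      obtain ⟨n, hn⟩ := h.QP _ hq
      refine ⟨n, fun u => ?_⟩
      have hx' := tv i ⟨c i, h.cU i⟩ x hx hT
      have e1 : ∀ u : Additive U, t • u = (⟨x, hx⟩ : H) • u := fun u => by rw [ht u, hx' u]
      have e2 : ∀ u : Additive U, t⁻¹ • u = (⟨x, hx⟩ : H)⁻¹ • u := by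
        intro u
        rw [inv_smul_eq_iff, e1, smul_inv_smul]
      have e3 : ∀ u : Additive U, (s * t * s⁻¹ * t⁻¹) • u = (s * ⟨x, hx⟩ * s⁻¹ * (⟨x, hx⟩ : H)⁻¹) • u := by
        intro u
        simp only [mul_smul]
        rw [e2, e1]
      have e4 : ∀ (m : ℕ) (u : Additive U), ((s * t * s⁻¹ * t⁻¹) ^ m) • u =
          ((s * ⟨x, hx⟩ * s⁻¹ * (⟨x, hx⟩ : H)⁻¹) ^ m) • u := by
        intro m
        induction m with
        | zero => intro u; rw [pow_zero, pow_zero]
        | succ m ih =>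
          intro u
          rw [pow_succ, pow_succ, mul_smul ((s * t * s⁻¹ * t⁻¹) ^ m),
            mul_smul ((s * ⟨x, hx⟩ * s⁻¹ * (⟨x, hx⟩ : H)⁻¹) ^ m), e3, ih]
      rw [e4]
      have e5 : ((s * ⟨x, hx⟩ * s⁻¹ * (⟨x, hx⟩ : H)⁻¹) ^ (2 ^ n) : H) = 1 := by
        apply Subtype.ext
        rw [SubmonoidClass.coe_pow]
        exact hn
      rw [e5, one_smul]
  obtain ⟨u, hu⟩ := D.exists_apply b
  exact ⟨((Additive.toMul u : U) : G), (Additive.toMul u).2, hu⟩

end GDat

end Cfsg.Agent.Omega.NOThreeL.AFour
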