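import Cfsg.Agent.Mrg.Omega.NOThreeL.AFour.Frame
import Cfsg.Agent.Mrg.Omega.NOThreeL.AFour.TwoLin


/-!
# NO-3L A4, `q = 2` (helper884 #16392 (2)): `U_H` induces all upper unitriangular elements of `SL₂(2)^k`

* `FrA.exists_gen` : `Z = ⟨z⟩`; `FrA.gdat` : `GDat`;
* `ind_two` : `Ind M (zl S H) Set.univ`.
-/

set_option autoImplicit false
set_option Elab.async false

namespace Cfsg.Agent.Omega.NOThreeL.AFour

open Subgroup Cfsg Cfsg.Agent.ZN Cfsg.Agent.Omega.FrameNOFF
open Cfsg.Agent.ZN.ChoiceBase hiding mem_zc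
open Cfsg.Agent.Omega.MinPar Cfsg.Agent.Omega.FFThm Cfsg.Agent.Omega.Node.NO3L Cfsg.Agent.Omega.Frame
open Cfsg.Agent.Omega.NOThreeL.Basic Cfsg.Agent.Omega.NOThreeL.Main
open Cfsg.Agent.MinSimple.VModule (le_normalizer_zl zl_le zc_le_zl zc_le mem_zc zl_comm zl_sq le_o2 o2_isPGroup
  le_normalizer_o2 le_centralizer_zc o2_le)
open Cfsg.Agent.Lib.SL2Mat
open Cfsg.Agent.Omega.NatPair (ap ap_mul ap_one ap_inv_ap ap_ap_inv exists_ap ap_add)
open Cfsg.Agent.Omega.IId (Ind cj_mem cj_mem' e_inj e_one e_inv sg sg_spec sg_eq_iff fac exists_fac exists_trans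
  eq_one_of_cent mem_fac ext_fac)
open Cfsg.Agent.Omega.NOThreeL.ATwo (Up e_cm b_eq_zero_iff TvBy phi phi_eq_zero phi_eq_one phi_up phi_of_cent
  phi_conj)
open scoped Pointwise

universe u

variable {G : Type u} [Group G] [Finite G] {S : Sylow 2 G} {P H : Subgroup G} {F : Type} [Field F] {k : ℕ}

theorem charP_of_two (two : ∀ x : F, x = 0 ∨ x = 1) : CharP F 2 := by
  refine CharTwo.of_one_ne_zero_of_two_eq_zero one_ne_zero ?_
  rcases two 2 with h | h
  · exact h
  · exfalso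
    have h1 : (1 : F) + 1 = 1 := by rw [one_add_one_eq_two, h]
    exact one_ne_zero (left_eq_add.1 h1.symm)

namespace FrA

variable {M : NatK F (S : Subgroup G) P (zl (S : Subgroup G) P) ⊥ k} (h : FrA S P H M)
include h

/-- the generator of `Z` -/
theorem exists_gen (two : ∀ x : F, x = 0 ∨ x = 1) : ∃ z ∈ zc (S : Subgroup G), z ≠ 1 ∧ (∀ i, M.e z i = ![1, 0]) ∧
    ∀ x ∈ zc (S : Subgroup G), x ≠ 1 → x = z := by
  have key : ∀ x ∈ zc (S : Subgroup G), x ≠ 1 → ∀ i, M.e x i = ![1, 0] := by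
    intro x hx hx1 i
    have h5 := h.ez hx i
    have h6 : M.e x i 0 = 1 := by
      rcases two (M.e x i 0) with h0 | h0
      · exact absurd (NatPair.ext2 h0 h5) (h.ez_ne hx hx1 i)
      · exact h0
    exact NatPair.ext2 h6 h5
  obtain ⟨z, hz, hz1⟩ := h.exists_z
  refine ⟨z, hz, hz1, key z hz hz1, fun x hx hx1 => ?_⟩
  refine e_inj M (zc_le_zl _ _ hx) (zc_le_zl _ _ hz) (funext fun i => ?_)
  rw [key x hx hx1 i, key z hz hz1 i]

variable {z : G}

theorem core {T : Subgroup G} (hz : ∀ x ∈ zc (S : Subgroup G), x ≠ 1 → x = z)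
    (hT : T ≤ zl (S : Subgroup G) H) (hn : (S : Subgroup G) ≤ normalizer (T : Set G)) (h1 : T ≠ ⊥) : z ∈ T := by
  have : Fact (Nat.Prime 2) := ⟨Nat.prime_two⟩
  have hTp : IsPGroup 2 T := S.isPGroup'.to_le (hT.trans h.US)
  have h2 := Cfsg.Agent.PLocal.OffenderStep.inf_centralizer_ne_bot T (S : Subgroup G) hTp S.isPGroup' hn h1
  obtain ⟨x, hx, hx1⟩ : ∃ x ∈ T ⊓ centralizer ((S : Subgroup G) : Set G), x ≠ 1 := by
    by_contra hcon
    push Not at hcon
    exact h2 ((eq_bot_iff_forall _).2 hcon)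
  rw [mem_inf] at hx
  have h3 : x ∈ zc (S : Subgroup G) := by
    refine mem_zc.2 ⟨h.US (hT hx.1), fun b hb => mem_centralizer_iff.1 hx.2 b hb, ?_⟩
    rw [pow_two]
    exact h.sq x (hT hx.1)
  rw [← hz x h3 hx1]
  exact hx.1

omit h [Finite G] in
theorem mem_CZ' (hz : ∀ x ∈ zc (S : Subgroup G), x ≠ 1 → x = z) {g : G} (hg : g * z = z * g) :
    g ∈ CZ (S : Subgroup G) := by
  refine mem_centralizer_iff.2 fun x hx => ?_
  by_cases h1 : x = 1
  · rw [h1, one_mul, mul_one]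
  · rw [hz x hx h1, hg]

omit h [Finite G] in
theorem gen' (hz : ∀ x ∈ zc (S : Subgroup G), x ≠ 1 → x = z) (L : Subgroup G) (A : Subgroup G)
    (hA : ∀ x ∈ L, x * z * x⁻¹ ∈ A) : zl (S : Subgroup G) L ≤ A := by
  refine iSup_le fun g => ?_
  intro w hw
  have hw' := NoFF.Basic.mem_conj.1 hw
  by_cases h1 : (g : G)⁻¹ * w * g = 1
  · have h2 : w = 1 := by
      calc w = g * ((g : G)⁻¹ * w * g) * (g : G)⁻¹ := by group
        _ = 1 := by rw [h1]; group
    rw [h2]
    exact one_mem _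
  · have h2 := hz _ hw' h1
    have h3 : w = g * z * (g : G)⁻¹ := by rw [← h2]; group
    rw [h3]
    exact hA g g.2

/-- The elements `n i`, `c i` of the `i`-th factor. -/
theorem exists_tv [CharP F 2] (two : ∀ x : F, x = 0 ∨ x = 1) (i : Fin k) {c n : G} (hc : c ∈ zl (S : Subgroup G) P)
    (hce : M.e c = Pi.single i ![1, 0]) (hn : n ∈ zl (S : Subgroup G) P) (hne : M.e n = Pi.single i ![0, 1]) :
    TvBy (zl (S : Subgroup G) H) (phi M i) c n := by
  intro u hu
  obtain ⟨b, hb⟩ := h.exists_b hu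
  have h1 : ∀ j, M.e (u * n * u⁻¹ * n⁻¹) j = ![b j * M.e n j 1, 0] := e_cm (h.UP hu) hn hb
  have hmem : u * n * u⁻¹ * n⁻¹ ∈ zl (S : Subgroup G) P := mul_mem (cj_mem (h.UP hu) hn) (inv_mem hn)
  have h2 : n * u * n⁻¹ = (u * n * u⁻¹ * n⁻¹)⁻¹ * u := by group
  have hphi := phi_up (M := M) (i := i) (h.UP hu) hb
  rw [h2]
  split_ifs with h00
  · have h0 := hphi.1 h00
    have h3 : u * n * u⁻¹ * n⁻¹ = 1 := by
      refine e_inj M hmem (one_mem _) (funext fun j => ?_)
      rw [h1 j, e_one]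
      by_cases hj : j = i
      · rw [hj, h0]
        apply NatPair.ext2 <;> simp
      · rw [hne, Pi.single_eq_of_ne hj]
        apply NatPair.ext2 <;> simp
    rw [h3, inv_one, one_mul]
  · have hb1 : b i = 1 := (two _).resolve_left fun h0 => h00 (hphi.2 h0)
    have h3 : u * n * u⁻¹ * n⁻¹ = c := by
      refine e_inj M hmem hc (funext fun j => ?_)
      rw [h1 j, hce]
      by_cases hj : j = i
      · rw [hj, hb1, hne, Pi.single_eq_same, Pi.single_eq_same]
        apply NatPair.ext2 <;> simp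
      · rw [hne, Pi.single_eq_of_ne hj, Pi.single_eq_of_ne hj]
        apply NatPair.ext2 <;> simp
    rw [h3]
    have hcU : c ∈ zl (S : Subgroup G) H := h.line_le i hc hce
    have h4 := h.sq c hcU
    rw [inv_eq_of_mul_eq_one_left h4]
    exact h.ab c hcU u hu

omit h in
open Classical in
/-- the coordinates as functionals -/
noncomputable def lam (M : NatK F (S : Subgroup G) P (zl (S : Subgroup G) P) ⊥ k) (i : Fin k) (v : G) : ZMod 2 :=
  if M.e v i 0 = 0 then 0 else 1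

/-- the centres are permuted by `S` -/
theorem conj_c (hzm : z ∈ zc (S : Subgroup G)) (hez : ∀ i, M.e z i = ![1, 0]) {c : Fin k → G}
    (hcV : ∀ i, c i ∈ zl (S : Subgroup G) P) (hce : ∀ i, M.e (c i) = Pi.single i ![1, 0]) {s : G}
    (hs : s ∈ (S : Subgroup G)) {i j : Fin k} (hij : cj s (fac M i) = fac M j) : s * c i * s⁻¹ = c j := by
  have hsP := h.SP hs
  have hfac : ∀ i, c i ∈ fac M i := fun i => by
    refine (mem_fac M).2 ⟨hcV i, fun j hj => ?_⟩
    rw [hce i, Pi.single_eq_of_ne hj]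
  have h1 : s * c i * s⁻¹ ∈ fac M j := by
    rw [← hij]
    exact Subgroup.mem_map.2 ⟨c i, hfac i, rfl⟩
  refine ext_fac M h1 (hfac j) ?_
  have hzV : z ∈ zl (S : Subgroup G) P := zc_le_zl _ _ hzm
  have hsz : s * z * s⁻¹ = z := by rw [(mem_zc.1 hzm).2.1 s hs]; group
  -- `d = c i⁻¹ z`
  have h2 : M.e ((c i)⁻¹ * z) i = 0 := by
    rw [M.mul _ (inv_mem (hcV i)) _ hzV, e_inv M (hcV i), Pi.add_apply, Pi.neg_apply, hez, hce, Pi.single_eq_same,
      neg_add_cancel]
  have h3 := (sg_spec M hsP (mul_mem (inv_mem (hcV i)) hzV) i).2 h2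
  rw [(sg_eq_iff M hsP).2 hij] at h3
  have e : s * ((c i)⁻¹ * z) * s⁻¹ = (s * c i * s⁻¹)⁻¹ * z := by
    calc s * ((c i)⁻¹ * z) * s⁻¹ = (s * c i * s⁻¹)⁻¹ * (s * z * s⁻¹) := by group
      _ = _ := by rw [hsz]
  rw [e, M.mul _ (inv_mem (cj_mem hsP (hcV i))) _ hzV, e_inv M (cj_mem hsP (hcV i)), Pi.add_apply, Pi.neg_apply, hez,
    neg_add_eq_zero] at h3
  rw [h3, hce, Pi.single_eq_same]

theorem gdat [CharP F 2] (two : ∀ x : F, x = 0 ∨ x = 1) (hzm : z ∈ zc (S : Subgroup G))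
    (hez : ∀ i, M.e z i = ![1, 0]) (hz : ∀ x ∈ zc (S : Subgroup G), x ≠ 1 → x = z) {c : Fin k → G}
    (hcV : ∀ i, c i ∈ zl (S : Subgroup G) P) (hce : ∀ i, M.e (c i) = Pi.single i ![1, 0]) :
    GDat H (zl (S : Subgroup G) H) (S : Subgroup G) (o2 (CZ (S : Subgroup G))) (zl (S : Subgroup G) P) z
      (phi M) c (lam M) where
  SH := h.SH
  nrm := h.nrm
  ab := h.ab
  sq := h.sq
  zU := zc_le_zl _ _ hzm
  gen := fun A hA => gen' hz H A hA
  core := fun T hT hn h1 => h.core hz hT hn h1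
  add := by
    intro i u hu v hv
    obtain ⟨b, hb⟩ := h.exists_b hu
    obtain ⟨b', hb'⟩ := h.exists_b hv
    have h1 := phi_up (M := M) (i := i) (h.UP hu) hb
    have h2 := phi_up (M := M) (i := i) (h.UP hv) hb'
    have h3 := phi_up (M := M) (i := i) (mul_mem (h.UP hu) (h.UP hv)) (Up.mul (h.UP hv) hb hb')
    rw [Pi.add_apply] at h3
    rcases two (b i) with e1 | e1 <;> rcases two (b' i) with e2 | e2
    · rw [h1.2 e1, h2.2 e2, h3.2 (by rw [e1, e2, add_zero]), add_zero]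
    · rw [h1.2 e1, phi_eq_one.2 fun h0 => one_ne_zero (e2.symm.trans (h2.1 h0)),
        phi_eq_one.2 fun h0 => one_ne_zero (α := F) (by rw [← h3.1 h0, e1, e2, zero_add]), zero_add]
    · rw [h2.2 e2, phi_eq_one.2 fun h0 => one_ne_zero (e1.symm.trans (h1.1 h0)),
        phi_eq_one.2 fun h0 => one_ne_zero (α := F) (by rw [← h3.1 h0, e1, e2, add_zero]), add_zero]
    · rw [phi_eq_one.2 fun h0 => one_ne_zero (e1.symm.trans (h1.1 h0)),
        phi_eq_one.2 fun h0 => one_ne_zero (e2.symm.trans (h2.1 h0)),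
        h3.2 (by rw [e1, e2]; exact CharTwo.add_self_eq_zero 1)]
      decide
  ne := by
    intro i
    obtain ⟨u, hu, b, hub, hb⟩ := h.exists_ne i
    exact ⟨u, hu, fun h0 => hb ((phi_up (M := M) (h.UP hu) hub).1 h0)⟩
  cU := fun i => h.line_le i (hcV i) (hce i)
  c0 := by
    intro i
    refine phi_of_cent (M := M) ?_
    rw [mem_centralizer_iff]
    intro v hv
    exact e_inj M (mul_mem hv (hcV i)) (mul_mem (hcV i) hv) (by
      rw [M.mul v hv _ (hcV i), M.mul _ (hcV i) v hv, add_comm])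
  cV := hcV
  lam1 := by
    intro i
    unfold lam
    rw [e_one]
    exact if_pos rfl
  lamc := by
    intro i j
    unfold lam
    rw [hce j]
    by_cases hij : i = j
    · subst hij
      rw [Pi.single_eq_same, if_pos rfl, if_neg]
      exact one_ne_zero
    · rw [Pi.single_eq_of_ne hij, if_neg hij]
      exact if_pos rfl
  lamm := by
    intro i j v hv
    unfold lam
    rw [M.mul _ (hcV j) v hv, Pi.add_apply, Pi.add_apply]
    rcases two (M.e (c j) i 0) with e1 | e1 <;> rcases two (M.e v i 0) with e2 | e2 <;> rw [e1, e2]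
    · simp
    · simp
    · simp
    · have h11 : (1 : F) + 1 = 0 := CharTwo.add_self_eq_zero 1
      rw [h11, if_pos rfl, if_neg one_ne_zero]
      decide
  tr := by
    intro i
    obtain ⟨n, hn, hne⟩ := M.surj (Pi.single i ![0, 1])
    exact ⟨n, h.SH (h.VS hn), h.D.low P h.E.par hn, h.exists_tv two i (hcV i) (hce i) hn hne⟩
  QP := by
    intro x hx
    obtain ⟨n, hn⟩ := o2_isPGroup (CZ (S : Subgroup G)) ⟨x, hx⟩
    exact ⟨n, congrArg Subtype.val hn⟩
  Qn := fun x _ hxz y hy => (mem_normalizer_iff.1 (le_normalizer_o2 _ (mem_CZ' hz hxz)) y).1 hy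
  trans := by
    intro i j
    obtain ⟨s, hs, h1⟩ := exists_trans M h.SP i j
    exact ⟨s, hs, fun u _ => phi_conj h1, h.conj_c hzm hez hcV hce hs h1⟩

end FrA

/-- **`q = 2`: `U_H` induces everything.** -/
theorem ind_two (hc : IsCharacteristicTwoType G) (D : DataZ (S : Subgroup G)) (h : PairA (S : Subgroup G) P H)
    (two : ∀ x : F, x = 0 ∨ x = 1) (hk : 0 < k) (M : NatK F (S : Subgroup G) P (zl (S : Subgroup G) P) ⊥ k) :
    Ind M (zl (S : Subgroup G) H) Set.univ := by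
  have hchar : CharP F 2 := charP_of_two two
  have hne : (S : Subgroup G) ≠ ⊥ := by
    intro h0
    refine h.ne' fun u _ => mem_centralizer_iff.2 fun v hv => ?_
    have h1 := IsParS.zl_le_S hc h.par hv
    rw [h0, mem_bot] at h1
    rw [h1, one_mul, mul_one]
  have f : FrA S P H M := ⟨hc, hne, D, h, hk⟩
  obtain ⟨z, hzm, hz1, hez, hz⟩ := f.exists_gen two
  choose c hcV hce using fun i : Fin k => M.surj (Pi.single i ![1, 0])
  have g := f.gdat two hzm hez hz hcV hce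
  refine ⟨fun a ha => ?_, fun b _ => ?_⟩
  · obtain ⟨b, hb⟩ := f.exists_b ha
    exact ⟨b, fun i hi => absurd (Set.mem_univ i) hi, hb⟩
  · classical
    obtain ⟨u, hu, hub⟩ := g.exists_apply fun i => if b i = 0 then 0 else 1
    refine ⟨u, hu, ?_⟩
    obtain ⟨β, hβ⟩ := f.exists_b hu
    have : β = b := by
      funext i
      have h1 := phi_up (M := M) (i := i) (f.UP hu) hβ
      have h2 := hub i
      rcases two (b i) with h3 | h3
      · rw [if_pos h3] at h2
        rw [h1.1 h2, h3]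
      · rw [if_neg (by rw [h3]; exact one_ne_zero)] at h2
        rcases two (β i) with h4 | h4
        · rw [h1.2 h4] at h2
          exact absurd h2 (by decide)
        · rw [h4, h3]
    rw [← this]
    exact hβ

end Cfsg.Agent.Omega.NOThreeL.AFour
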